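import Groth.Agent.Lib.FibProp5.Def
import Mathlib.RingTheory.Ideal.GoingUp
import Mathlib.RingTheory.Localization.BaseChange
import Mathlib.RingTheory.Flat.Localization

/-!
# Passing to finite domains over the base
-/

universe u

open IsLocalRing TensorProduct

namespace GrothLib.FibProp5

variable {G : RProp.{u}}

/-- A finite domain over a complete Noetherian local ring is a complete local ring. -/
theorem isLocalRing_of_finite_domain (C C' : Type u) [CommRing C] [IsLocalRing C] [IsNoetherianRing C]
    [IsAdicComplete (maximalIdeal C) C] [CommRing C'] [IsDomain C'] [Algebra C C'] [Module.Finite C C'] :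
    IsLocalRing C' := by
  classical
  obtain ⟨-, hbij, -⟩ := GrothLib.AdicExtra.finite_algebra_pi_localizations C C'
  refine IsLocalRing.of_unique_max_ideal ?_
  obtain ⟨m, hm⟩ := Ideal.exists_maximal C'
  refine ⟨m, hm, fun m' hm' => ?_⟩
  by_contra hne
  obtain ⟨e, he⟩ := hbij.2 (Pi.single (⟨m, hm⟩ : MaximalSpectrum C') 1)
  have hidem : e * e = e := hbij.1 (by
    rw [map_mul, he]
    funext i
    by_cases hi : i = ⟨m, hm⟩
    · subst hi; simp
    · simp [Pi.single_eq_of_ne hi])
  rcases eq_or_ne e 0 with h0 | h0
  · have := congrFun he ⟨m, hm⟩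
    rw [h0, map_zero, Pi.zero_apply, Pi.single_eq_same] at this
    exact zero_ne_one this
  · have h1 : e = 1 := mul_left_cancel₀ h0 (by rw [hidem, mul_one])
    have := congrFun he ⟨m', hm'⟩
    rw [h1, map_one, Pi.one_apply, Pi.single_eq_of_ne
      (fun h => hne (congrArg MaximalSpectrum.asIdeal h))] at this
    exact one_ne_zero this

theorem isAdicComplete_of_finite_domain (C C' : Type u) [CommRing C] [IsLocalRing C] [IsNoetherianRing C]
    [IsAdicComplete (maximalIdeal C) C] [CommRing C'] [IsDomain C'] [Algebra C C'] [Module.Finite C C']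
    [IsLocalRing C'] : IsAdicComplete (maximalIdeal C') C' :=
  haveI : IsNoetherianRing C' := IsNoetherianRing.of_finite C C'
  GrothLib.AdicExtra.isAdicComplete_localRing (R := C)

/-- The property asked of the local algebras over `C'`. -/
def LocalCase (G : RProp.{u}) (C' : Type u) [CommRing C'] [IsLocalRing C'] : Prop :=
  ∀ (E : Type u) [CommRing E] [IsLocalRing E] [IsNoetherianRing E] [IsAdicComplete (maximalIdeal E) E]
    [Algebra C' E] [IsLocalHom (algebraMap C' E)] [Module.Flat C' E],
    Module.Finite C' (ResidueField E) → ClosedGood G C' E →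
    ∀ (q : Ideal E) [q.IsPrime], q.comap (algebraMap C' E) = ⊥ → At G q

/-- Over a regular base every prime is good. -/
theorem localCase_of_regular (hG : Good G) (C' : Type u) [CommRing C'] [IsRegularLocalRing C'] :
    LocalCase G C' := by
  intro E _ _ _ _ _ _ _ _ hcl q _ _
  obtain ⟨n, hn, -⟩ := GrothLib.RegLoc.exists_dim_eq (R := C')
  refine at_of_local hG (of_flat_regular hG n C' E hn (hG.congr ?_ (hcl (ResidueField C') inferInstance))) q
  exact ((Algebra.TensorProduct.comm C' (ResidueField C') E).toRingEquiv).trans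
    (Algebra.TensorProduct.quotIdealMapEquivTensorQuot E (maximalIdeal C')).symm.toRingEquiv

/-- If `G` holds for local algebras over the finite domain `C'`, it holds at all primes of `D ⊗ C'`
over the generic point of `C'`. -/
theorem at_tensor_of_localCase (hG : Good G) {C : Type u} [CommRing C] [IsLocalRing C] [IsNoetherianRing C]
    {D : Type u} [CommRing D] [IsLocalRing D] [IsNoetherianRing D] [IsAdicComplete (maximalIdeal D) D]
    [Algebra C D] [IsLocalHom (algebraMap C D)] [Module.Flat C D]
    (hres : Module.Finite C (ResidueField D)) (hcl : ClosedGood G C D)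
    (C' : Type u) [CommRing C'] [IsDomain C'] [IsLocalRing C'] [Algebra C C'] [Module.Finite C C']
    (H : LocalCase G C') (q : Ideal (D ⊗[C] C')) [q.IsPrime]
    (hq : q.comap (Algebra.TensorProduct.includeRight : C' →ₐ[C] D ⊗[C] C').toRingHom = ⊥) : At G q := by
  letI : Algebra C' (D ⊗[C] C') := Algebra.TensorProduct.rightAlgebra
  haveI hflat : Module.Flat C' (D ⊗[C] C') :=
    Module.Flat.of_linearEquiv (Algebra.TensorProduct.commRight C C' D).toLinearEquiv.symm
  haveI : IsNoetherianRing (D ⊗[C] C') := IsNoetherianRing.of_finite D _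
  obtain ⟨M, hM, hqM⟩ := q.exists_le_maximal (Ideal.IsPrime.ne_top ‹_›)
  obtain ⟨-, hbij, hloc⟩ := GrothLib.AdicExtra.finite_algebra_pi_localizations D (D ⊗[C] C')
  obtain ⟨hNE, hcE⟩ := hloc ⟨M, hM⟩
  haveI := hNE
  haveI := hcE
  classical
  have hsurj : Function.Surjective (algebraMap (D ⊗[C] C') (Localization.AtPrime M)) := fun y => by
    obtain ⟨x, hx⟩ := hbij.2 (Pi.single (⟨M, hM⟩ : MaximalSpectrum _) y)
    exact ⟨x, by simpa using congrFun hx ⟨M, hM⟩⟩
  haveI : Module.Finite D (Localization.AtPrime M) :=
    Module.Finite.of_surjective (IsScalarTower.toAlgHom D (D ⊗[C] C') (Localization.AtPrime M)).toLinearMap hsurj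
  -- `M` lies over the maximal ideals
  have hMD : M.comap (algebraMap D (D ⊗[C] C')) = maximalIdeal D :=
    eq_maximalIdeal (Ideal.isMaximal_comap_of_isIntegral_of_isMaximal M)
  have hMC : M.comap (algebraMap C' (D ⊗[C] C')) = maximalIdeal C' := by
    refine eq_maximalIdeal (Ideal.isMaximal_of_isIntegral_of_isMaximal_comap (R := C) _ ?_)
    have e : (M.comap (algebraMap C' (D ⊗[C] C'))).comap (algebraMap C C') =
        (M.comap (algebraMap D (D ⊗[C] C'))).comap (algebraMap C D) := by
      rw [Ideal.comap_comap, Ideal.comap_comap, ← IsScalarTower.algebraMap_eq, ← IsScalarTower.algebraMap_eq]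
    rw [e, hMD, IsLocalRing.maximalIdeal_comap]
    exact IsLocalRing.maximalIdeal.isMaximal C
  haveI : IsLocalHom (algebraMap C' (Localization.AtPrime M)) := by
    refine ((local_hom_TFAE (algebraMap C' (Localization.AtPrime M))).out 0 4).2 ?_
    rw [IsScalarTower.algebraMap_eq C' (D ⊗[C] C') (Localization.AtPrime M), ← Ideal.comap_comap]
    rw [show (maximalIdeal (Localization.AtPrime M)).comap (algebraMap (D ⊗[C] C') (Localization.AtPrime M)) = M
      from IsLocalization.AtPrime.comap_maximalIdeal _ M, hMC]
  haveI : IsLocalHom (algebraMap D (Localization.AtPrime M)) := by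
    refine ((local_hom_TFAE (algebraMap D (Localization.AtPrime M))).out 0 4).2 ?_
    rw [IsScalarTower.algebraMap_eq D (D ⊗[C] C') (Localization.AtPrime M), ← Ideal.comap_comap]
    rw [show (maximalIdeal (Localization.AtPrime M)).comap (algebraMap (D ⊗[C] C') (Localization.AtPrime M)) = M
      from IsLocalization.AtPrime.comap_maximalIdeal _ M, hMD]
  haveI : Module.Flat (D ⊗[C] C') (Localization.AtPrime M) := IsLocalization.flat _ M.primeCompl
  haveI : Module.Flat C' (Localization.AtPrime M) := Module.Flat.trans C' (D ⊗[C] C') _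
  have hres' : Module.Finite C' (ResidueField (Localization.AtPrime M)) := by
    haveI : Module.Finite (ResidueField D) (ResidueField (Localization.AtPrime M)) := inferInstance
    haveI := hres
    haveI : Module.Finite C (ResidueField (Localization.AtPrime M)) := Module.Finite.trans (ResidueField D) _
    exact Module.Finite.of_restrictScalars_finite C C' _
  have hcl' : ClosedGood G C' (Localization.AtPrime M) := by
    intro K _ _ hK
    letI : Algebra C K := ((algebraMap C' K).comp (algebraMap C C')).toAlgebra
    haveI : IsScalarTower C C' K := IsScalarTower.of_algebraMap_eq fun _ => rfl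
    haveI : Module.Finite C K := Module.Finite.trans C' K
    have h0 : G (K ⊗[C] D) := hcl K inferInstance
    have h1 : G ((D ⊗[C] C') ⊗[C'] K) := hG.congr
      (((Algebra.TensorProduct.comm C' (D ⊗[C] C') K).toRingEquiv).trans
        (((Algebra.TensorProduct.congr (AlgEquiv.refl (R := C') (A₁ := K))
            (Algebra.TensorProduct.commRight C C' D).symm).toRingEquiv).trans
          (Algebra.TensorProduct.cancelBaseChange C C' C' K D).toRingEquiv)).symm h0
    haveI : Algebra.EssFiniteType (D ⊗[C] C') ((D ⊗[C] C') ⊗[C'] K) := inferInstance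
    haveI : IsNoetherianRing ((D ⊗[C] C') ⊗[C'] K) :=
      Algebra.EssFiniteType.isNoetherianRing (D ⊗[C] C') _
    have h2 : G (Localization.AtPrime M ⊗[D ⊗[C] C'] ((D ⊗[C] C') ⊗[C'] K)) :=
      letI : Algebra ((D ⊗[C] C') ⊗[C'] K) (Localization.AtPrime M ⊗[D ⊗[C] C'] ((D ⊗[C] C') ⊗[C'] K)) :=
        Algebra.TensorProduct.rightAlgebra
      hG.localization _ (Algebra.algebraMapSubmonoid ((D ⊗[C] C') ⊗[C'] K) M.primeCompl) h1
    exact hG.congr ((Algebra.TensorProduct.cancelBaseChange C' (D ⊗[C] C') (D ⊗[C] C')
      (Localization.AtPrime M) K).toRingEquiv.trans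
        (Algebra.TensorProduct.comm C' (Localization.AtPrime M) K).toRingEquiv) h2
  have hd : Disjoint (M.primeCompl : Set (D ⊗[C] C')) q :=
    Set.disjoint_left.2 fun x hx hxq => hx (hqM hxq)
  haveI := IsLocalization.isPrime_of_isPrime_disjoint M.primeCompl (Localization.AtPrime M) q inferInstance hd
  have hq' : (q.map (algebraMap (D ⊗[C] C') (Localization.AtPrime M))).comap
      (algebraMap C' (Localization.AtPrime M)) = ⊥ := by
    have hu := IsLocalization.under_map_of_isPrime_disjoint M.primeCompl (Localization.AtPrime M) (I := q)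
      inferInstance hd
    rw [Ideal.under_def] at hu
    rw [IsScalarTower.algebraMap_eq C' (D ⊗[C] C') (Localization.AtPrime M), ← Ideal.comap_comap, hu]
    exact hq
  rw [← at_congr (IsLocalization.under_map_of_isPrime_disjoint M.primeCompl (Localization.AtPrime M) inferInstance hd)]
  exact (at_comap_iff hG _ M.primeCompl _).2 (H (Localization.AtPrime M) hres' hcl' _ hq')

end GrothLib.FibProp5
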