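import Groth.Agent.Lib.N2.Stabilize
import Groth.Agent.Lib.Cohen.NagataMain
import Groth.Agent.Lib.FibProp5.Semilocal
import Groth.Agent.Lib.UnivOpenAt6.Cut.Height
import Groth.Agent.Lib.RegLoc.PowerSeries
import Groth.Agent.Lib.Dim.Ring
import Groth.Agent.Lib.N2.Reduced
import Mathlib.RingTheory.DiscreteValuationRing.TFAE
import Mathlib.RingTheory.PowerSeries.Inverse
import Mathlib.RingTheory.MvPowerSeries.Rename
import Mathlib.FieldTheory.IsAlgClosed.Basic

/-!
# Maps of complete local rings to discrete valuation rings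
-/

universe u

open IsLocalRing

namespace GrothLib.FibProp5

/-- A non-nilpotent element of the maximal ideal survives in some complete discrete valuation ring,
finite over the ring. -/
theorem exists_dvr_map {A : Type u} [CommRing A] [IsNoetherianRing A] [IsLocalRing A]
    [IsAdicComplete (maximalIdeal A) A] {a : A} (ha : a ∈ maximalIdeal A) (hn : ¬ IsNilpotent a) :
    ∃ (V : Type u) (_ : CommRing V) (_ : IsDomain V) (_ : IsDiscreteValuationRing V)
      (_ : IsAdicComplete (maximalIdeal V) V) (φ : A →+* V), IsLocalHom φ ∧ φ.Finite ∧ φ a ≠ 0 := by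
  obtain ⟨P₀, hP₀, ha₀⟩ : ∃ P₀ : Ideal A, P₀.IsPrime ∧ a ∉ P₀ := by
    have h1 : a ∉ nilradical A := fun h => hn (mem_nilradical.1 h)
    rw [nilradical_eq_sInf, Submodule.mem_sInf] at h1
    push Not at h1
    exact h1
  haveI := hP₀
  obtain ⟨P, hP, -, hPm, haP, hcov⟩ :=
    GrothLib.UnivOpenAt6.exists_coheight_one (maximalIdeal A) P₀ (le_maximalIdeal hP₀.ne_top) ha ha₀
  haveI := hP
  haveI : IsLocalRing (A ⧸ P) := GrothLib.RegLoc.isLocalRing_quotient hPm
  haveI : IsAdicComplete (maximalIdeal (A ⧸ P)) (A ⧸ P) := isAdicComplete_of_finite_domain A (A ⧸ P)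
  set R := A ⧸ P
  haveI : Ring.KrullDimLE 1 R := by
    refine Ring.krullDimLE_one_iff.2 fun Q hQ => ?_
    by_cases h : Q = ⊥
    · exact Or.inl (by rw [IsDomain.minimalPrimes_eq_singleton_bot]; exact h)
    · refine Or.inr ?_
      have hQc : P < Q.comap (Ideal.Quotient.mk P) := by
        refine lt_of_le_of_ne (fun x hx => ?_) fun he => h ?_
        · rw [Ideal.mem_comap, Ideal.Quotient.eq_zero_iff_mem.2 hx]; exact zero_mem _
        · rw [← Ideal.map_comap_of_surjective _ Ideal.Quotient.mk_surjective Q, ← he, Ideal.map_quotient_self]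
      have h1 := hcov _ inferInstance hQc (le_maximalIdeal (Ideal.IsPrime.ne_top inferInstance))
      rw [← Ideal.map_comap_of_surjective _ Ideal.Quotient.mk_surjective Q, h1]
      exact Ideal.IsMaximal.map_of_surjective_of_ker_le Ideal.Quotient.mk_surjective (by simpa using hPm)
  let K := FractionRing R
  set O := integralClosure R K
  haveI : Module.Finite R O := GrothLib.N2.finite_integralClosure_field (GrothLib.Cohen.isNagata_of_isAdicComplete R) K
  haveI := isLocalRing_of_finite_domain R O
  haveI : IsFractionRing O K := integralClosure.isFractionRing_of_finite_extension K K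
  haveI : IsIntegrallyClosed O := integralClosure.isIntegrallyClosedOfFiniteExtension K
  haveI : IsNoetherianRing O := IsNoetherianRing.of_finite R O
  haveI : Algebra.IsIntegral R O := Algebra.IsIntegral.of_finite R O
  haveI : IsAdicComplete (maximalIdeal O) O := isAdicComplete_of_finite_domain R O
  have hinj : Function.Injective (algebraMap R O) := fun x y h =>
    IsFractionRing.injective R K (congrArg Subtype.val h)
  have ha' : algebraMap R O (Ideal.Quotient.mk P a) ≠ 0 := fun h =>
    haP (Ideal.Quotient.eq_zero_iff_mem.1 (hinj (h.trans (map_zero _).symm)))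
  have hau : ¬ IsUnit (Ideal.Quotient.mk P a) := fun hu => by
    obtain ⟨b, hb⟩ := hu.exists_right_inv
    obtain ⟨b, rfl⟩ := Ideal.Quotient.mk_surjective b
    rw [← map_mul, ← map_one (Ideal.Quotient.mk P), Ideal.Quotient.eq] at hb
    have := sub_mem (Ideal.mul_mem_right b _ ha) (hPm hb)
    rw [sub_sub_cancel] at this
    exact (maximalIdeal.isMaximal A).ne_top ((Ideal.eq_top_iff_one _).2 this)
  have hf : ¬ IsField O := fun hf => by
    letI := (isField_of_isIntegral_of_isField hinj hf).toField
    exact hau (IsUnit.mk0 _ fun h => haP (Ideal.Quotient.eq_zero_iff_mem.1 h))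
  haveI : Ring.KrullDimLE 1 O :=
    Ring.krullDimLE_iff.2 ((GrothLib.Dim.ringKrullDim_le_of_isIntegral R O).trans (Ring.krullDimLE_iff.1 inferInstance))
  have huniq : ∃! Q : Ideal O, Q ≠ ⊥ ∧ Q.IsPrime := by
    refine ⟨maximalIdeal _, ⟨fun h => hf (isField_iff_maximalIdeal_eq.2 h), inferInstance⟩, ?_⟩
    rintro Q ⟨hQ0, hQ⟩
    rcases Ring.krullDimLE_one_iff.1 ‹_› Q hQ with h | h
    · rw [IsDomain.minimalPrimes_eq_singleton_bot] at h
      exact absurd h hQ0
    · exact eq_maximalIdeal h
  haveI : IsDiscreteValuationRing O := ((IsDiscreteValuationRing.TFAE O hf).out 0 3 rfl rfl).2 ⟨inferInstance, huniq⟩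
  have hfin : ((algebraMap R O).comp (Ideal.Quotient.mk P)).Finite :=
    (RingHom.finite_algebraMap.2 inferInstance).comp (RingHom.Finite.of_surjective _ Ideal.Quotient.mk_surjective)
  haveI : IsLocalHom (Ideal.Quotient.mk P) := IsLocalHom.of_surjective _ Ideal.Quotient.mk_surjective
  haveI : IsLocalHom (algebraMap R O) := RingHom.IsIntegral.isLocalHom (algebraMap_isIntegral_iff.2 inferInstance) hinj
  exact ⟨O, inferInstance, inferInstance, inferInstance, inferInstance, _, RingHom.isLocalHom_comp _ _, hfin, ha'⟩

/-- Over an algebraically closed coefficient field the valuation ring is a power series ring. -/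
theorem exists_powerSeries_map {k A : Type u} [Field k] [IsAlgClosed k] [CommRing A] [IsDomain A] [Algebra k A]
    [IsNoetherianRing A] [IsLocalRing A] [IsAdicComplete (maximalIdeal A) A] [Module.Finite k (ResidueField A)]
    {a : A} (ha : a ≠ 0) :
    ∃ φ : A →ₐ[k] PowerSeries k, (∀ x ∈ maximalIdeal A, φ x ∈ Ideal.span {PowerSeries.X}) ∧ φ a ≠ 0 := by
  have hbij : Function.Bijective (algebraMap k (ResidueField A)) :=
    IsAlgClosed.algebraMap_bijective_of_isIntegral
  by_cases ham : a ∈ maximalIdeal A
  · obtain ⟨V, _, _, _, _, ψ, hloc, hfin, hψa⟩ := exists_dvr_map ham (fun h => ha h.eq_zero)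
    letI : Algebra A V := ψ.toAlgebra
    letI : Algebra k V := (ψ.comp (algebraMap k A)).toAlgebra
    haveI : IsScalarTower k A V := IsScalarTower.of_algebraMap_eq fun _ => rfl
    haveI : Module.Finite A V := hfin
    haveI : IsLocalHom (algebraMap A V) := hloc
    haveI : Module.Finite k (ResidueField V) := by
      haveI : Module.Finite A (ResidueField V) :=
        Module.Finite.of_surjective (Algebra.linearMap V (ResidueField V) |>.restrictScalars A) IsLocalRing.residue_surjective
      haveI : Module.Finite (ResidueField A) (ResidueField V) :=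
        Module.Finite.of_restrictScalars_finite A _ _
      exact Module.Finite.trans (ResidueField A) _
    have hbV : Function.Bijective (algebraMap k (ResidueField V)) :=
      IsAlgClosed.algebraMap_bijective_of_isIntegral
    have hR : Function.Surjective ((residue V).comp (algebraMap k V)) := by
      intro y
      obtain ⟨c, hc⟩ := hbV.2 y
      exact ⟨c, by rw [← hc]; rfl⟩
    obtain ⟨t, ht⟩ := IsDiscreteValuationRing.exists_irreducible V
    obtain ⟨θ, hθ⟩ := GrothLib.RegLoc.PS.exists_algHom (A := k) (maximalIdeal V) (d := 1) (fun _ => t)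
      (fun _ => by rw [ht.maximalIdeal_eq]; exact Ideal.mem_span_singleton_self t)
    have hsp : Ideal.span (Set.range fun i : Fin 1 => θ (MvPowerSeries.X i)) = maximalIdeal V := by
      rw [ht.maximalIdeal_eq]
      congr 1
      ext z
      simp [hθ, eq_comm]
    have hs := GrothLib.RegLoc.PS.surjective hR θ hsp
    let e : MvPowerSeries (Fin 1) k ≃ₐ[k] PowerSeries k := MvPowerSeries.renameEquiv k (Equiv.equivPUnit (Fin 1))
    let θ' : PowerSeries k →ₐ[k] V := θ.comp e.symm.toAlgHom
    have hs' : Function.Surjective θ' := hs.comp e.symm.surjective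
    have hi : Function.Injective θ' := by
      refine (RingHom.injective_iff_ker_eq_bot θ'.toRingHom).2 ?_
      by_contra hne
      haveI : (RingHom.ker θ'.toRingHom).IsPrime := RingHom.ker_isPrime _
      have hmax : (RingHom.ker θ'.toRingHom).IsMaximal := IsPrime.to_maximal_ideal hne
      haveI := hmax
      exact IsDiscreteValuationRing.not_isField V
        ((RingHom.quotientKerEquivOfSurjective (f := θ'.toRingHom) hs').symm.toMulEquiv.isField
          (Ideal.Quotient.maximal_ideal_iff_isField_quotient _ |>.1 hmax))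
    let E := AlgEquiv.ofBijective θ' ⟨hi, hs'⟩
    refine ⟨E.symm.toAlgHom.comp (IsScalarTower.toAlgHom k A V), fun x hx => ?_, fun h => hψa ?_⟩
    · rw [← PowerSeries.maximalIdeal_eq_span_X]
      intro hu
      refine hx ?_
      exact isUnit_of_map_unit (algebraMap A V) x ((MulEquiv.isUnit_map E.symm.toMulEquiv).1 hu)
    · exact (map_eq_zero_iff E.symm E.symm.injective).1 h
  · let e := AlgEquiv.ofBijective (Algebra.ofId k (ResidueField A)) hbij
    refine ⟨(Algebra.ofId k (PowerSeries k)).comp (e.symm.toAlgHom.comp (IsScalarTower.toAlgHom k A (ResidueField A))),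
      fun x hx => ?_, fun h => ham ?_⟩
    · have h0 : (IsScalarTower.toAlgHom k A (ResidueField A)) x = 0 := Ideal.Quotient.eq_zero_iff_mem.2 hx
      simp only [AlgHom.comp_apply, h0, map_zero, Submodule.zero_mem]
    · have h1 := (algebraMap k (PowerSeries k)).injective (h.trans (map_zero (algebraMap k (PowerSeries k))).symm)
      exact Ideal.Quotient.eq_zero_iff_mem.1 ((map_eq_zero_iff e.symm e.symm.injective).1 h1)

end GrothLib.FibProp5
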