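import Groth.Agent.Lib.GeomReg.FiniteGRing
import Groth.Agent.Lib.AdicExtra.TensorFlat
import Groth.Agent.Lib.Flatness.Criterion
import Groth.Agent.Lib.Excellent.FormalFibres
import Groth.Agent.Lib.FibProp5.Semilocal

/-!
# The completion of a flat local homomorphism
-/

universe u

open IsLocalRing TensorProduct

namespace GrothLib.FibProp5

/-- A compatible map of completions of a flat local homomorphism is flat. -/
theorem flat_completion_map {A B : Type u} [CommRing A] [CommRing B] [IsLocalRing A] [IsLocalRing B]
    [IsNoetherianRing A] [IsNoetherianRing B] [Algebra A B] [IsLocalHom (algebraMap A B)] [Module.Flat A B]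
    [Algebra (AdicCompletion (maximalIdeal A) A) (AdicCompletion (maximalIdeal B) B)]
    [IsScalarTower A (AdicCompletion (maximalIdeal A) A) (AdicCompletion (maximalIdeal B) B)]
    [IsLocalHom (algebraMap (AdicCompletion (maximalIdeal A) A) (AdicCompletion (maximalIdeal B) B))] :
    Module.Flat (AdicCompletion (maximalIdeal A) A) (AdicCompletion (maximalIdeal B) B) := by
  set Ah := AdicCompletion (maximalIdeal A) A
  set Bh := AdicCompletion (maximalIdeal B) B
  haveI : Module.Flat B Bh := inferInstance
  haveI : Module.Flat A Bh := Module.Flat.trans A B Bh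
  have hm : (maximalIdeal A).map (algebraMap A Ah) = maximalIdeal Ah :=
    (AdicCompletion.maximalIdeal_eq_map (R := A)).symm
  refine GrothLib.Flatness.flat_of_forall_pow (S := Bh) (maximalIdeal Ah)
    ((Ideal.map_le_iff_le_comap.2 fun x hx => Ideal.mem_comap.2 (map_nonunit _ x hx)).trans
      (maximalIdeal_le_jacobson _)) fun n X Y _ _ _ _ f hX hY hf => ?_
  letI : Module A X := Module.compHom X (algebraMap A Ah)
  haveI : IsScalarTower A Ah X := IsScalarTower.of_compHom A Ah X
  letI : Module A Y := Module.compHom Y (algebraMap A Ah)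
  haveI : IsScalarTower A Ah Y := IsScalarTower.of_compHom A Ah Y
  have hcs : ∀ (Z : Type u) [AddCommGroup Z] [Module Ah Z] [Module A Z] [IsScalarTower A Ah Z],
      Module.IsTorsionBySet Ah Z (maximalIdeal Ah ^ n : Ideal Ah) → TensorProduct.CompatibleSMul A Ah Bh Z := by
    intro Z _ _ _ _ hZ
    refine ⟨fun c y z => ?_⟩
    obtain ⟨a, ha⟩ := Submodule.mkQ_surjective _ (AdicCompletion.eval (maximalIdeal A) A n c)
    have he : c - algebraMap A Ah a ∈ (maximalIdeal A ^ n • ⊤ : Submodule A Ah) := by
      rw [AdicCompletion.pow_smul_top_eq_ker_eval (maximalIdeal A).fg_of_isNoetherianRing, LinearMap.mem_ker,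
        map_sub, AdicCompletion.algebraMap_apply, AdicCompletion.eval_of]
      exact sub_eq_zero.2 ha.symm
    have hker : ∀ e ∈ (maximalIdeal A ^ n • ⊤ : Submodule A Ah),
        ∀ (y : Bh) (z : Z), (e • y) ⊗ₜ[A] z = 0 ∧ e • z = 0 := by
      intro e he
      refine Submodule.smul_induction_on he ?_ ?_
      · intro r hr e' _ y z
        have hrz : ∀ z : Z, r • z = 0 := fun z => by
          rw [← algebraMap_smul Ah r z]
          exact hZ (x := z) (a := ⟨algebraMap A Ah r, by rw [← hm, ← Ideal.map_pow]; exact Ideal.mem_map_of_mem _ hr⟩)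
        rw [smul_assoc, smul_assoc, smul_tmul, hrz, tmul_zero, hrz]
        exact ⟨rfl, rfl⟩
      · intro e₁ e₂ h1 h2 y z
        rw [add_smul, add_smul, add_tmul, (h1 y z).1, (h2 y z).1, (h1 y z).2, (h2 y z).2, add_zero, add_zero]
        exact ⟨rfl, rfl⟩
    obtain ⟨h3, h4⟩ := hker _ he y z
    rw [sub_smul, sub_tmul, sub_eq_zero, algebraMap_smul] at h3
    rw [sub_smul, sub_eq_zero, algebraMap_smul] at h4
    rw [h3, smul_tmul, h4]
  haveI := hcs X hX
  haveI := hcs Y hY
  have h1 : Function.Injective ((f.restrictScalars A).lTensor Bh) :=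
    Module.Flat.lTensor_preserves_injective_linearMap _ hf
  let eX := TensorProduct.equivOfCompatibleSMul Ah A A Bh X
  let eY := TensorProduct.equivOfCompatibleSMul Ah A A Bh Y
  have h2 : ∀ z, f.lTensor Bh (eX z) = eY ((f.restrictScalars A).lTensor Bh z) := fun z => by
    induction z using TensorProduct.induction_on with
    | zero => simp
    | tmul y x => rfl
    | add u v hu hv => simp [hu, hv]
  intro u v huv
  obtain ⟨u, rfl⟩ := eX.surjective u
  obtain ⟨v, rfl⟩ := eX.surjective v
  rw [h2, h2] at huv
  exact congrArg eX (h1 (eY.injective huv))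

end GrothLib.FibProp5

namespace GrothLib.FibProp5

variable {G : RProp.{u}}

/-- The hypotheses of the complete case for `Â → B̂`, from the hypotheses on the closed fibre of `B̂`. -/
theorem completion_data (hG : Good G) {A B : Type u} [CommRing A] [CommRing B] [IsLocalRing A] [IsLocalRing B]
    [IsNoetherianRing A] [IsNoetherianRing B] [Algebra A B] [IsLocalHom (algebraMap A B)]
    [Module.Finite (ResidueField A) (ResidueField B)]
    [Algebra (AdicCompletion (maximalIdeal A) A) (AdicCompletion (maximalIdeal B) B)]
    [IsScalarTower A (AdicCompletion (maximalIdeal A) A) (AdicCompletion (maximalIdeal B) B)]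
    (h : ∀ (K : Type u) [Field K] [Algebra (maximalIdeal A).ResidueField K],
      Module.Finite (maximalIdeal A).ResidueField K →
        G (K ⊗[(maximalIdeal A).ResidueField] (maximalIdeal A).Fiber (AdicCompletion (maximalIdeal B) B))) :
    IsLocalHom (algebraMap (AdicCompletion (maximalIdeal A) A) (AdicCompletion (maximalIdeal B) B)) ∧
      Module.Finite (AdicCompletion (maximalIdeal A) A) (ResidueField (AdicCompletion (maximalIdeal B) B)) ∧
      ClosedGood G (AdicCompletion (maximalIdeal A) A) (AdicCompletion (maximalIdeal B) B) := by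
  set Ah := AdicCompletion (maximalIdeal A) A
  set Bh := AdicCompletion (maximalIdeal B) B
  have hm : (maximalIdeal A).map (algebraMap A Ah) = maximalIdeal Ah :=
    (AdicCompletion.maximalIdeal_eq_map (R := A)).symm
  have hmB : (maximalIdeal B).map (algebraMap B Bh) = maximalIdeal Bh :=
    (AdicCompletion.maximalIdeal_eq_map (R := B)).symm
  have hle : (maximalIdeal Ah).map (algebraMap Ah Bh) ≤ maximalIdeal Bh := by
    rw [← hm, Ideal.map_map, ← IsScalarTower.algebraMap_eq, IsScalarTower.algebraMap_eq A B Bh, ← Ideal.map_map, ← hmB]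
    exact Ideal.map_mono (Ideal.map_le_iff_le_comap.2 fun x hx => Ideal.mem_comap.2 (map_nonunit _ x hx))
  have hsurj : ∀ c : Ah, ∃ a : A, c - algebraMap A Ah a ∈ maximalIdeal Ah := fun c => by
    obtain ⟨a, ha⟩ := Submodule.mkQ_surjective _ (AdicCompletion.eval (maximalIdeal A) A 1 c)
    have he : c - algebraMap A Ah a ∈ (maximalIdeal A ^ 1 • ⊤ : Submodule A Ah) := by
      rw [AdicCompletion.pow_smul_top_eq_ker_eval (maximalIdeal A).fg_of_isNoetherianRing, LinearMap.mem_ker,
        map_sub, AdicCompletion.algebraMap_apply, AdicCompletion.eval_of]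
      exact sub_eq_zero.2 ha.symm
    rw [pow_one, Ideal.smul_top_eq_map, Submodule.restrictScalars_mem, hm] at he
    exact ⟨a, he⟩
  refine ⟨((local_hom_TFAE (algebraMap Ah Bh)).out 0 2).2 hle, ?_, ?_⟩
  · haveI : IsLocalHom (algebraMap B Bh) :=
      ((local_hom_TFAE (algebraMap B Bh)).out 0 2).2 hmB.le
    haveI : Module.Finite A (ResidueField B) := Module.Finite.trans (ResidueField A) _
    have hs : Function.Surjective (algebraMap B (ResidueField Bh)) := fun y => by
      obtain ⟨y, rfl⟩ := IsLocalRing.residue_surjective y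
      obtain ⟨b, hb⟩ := Submodule.mkQ_surjective _ (AdicCompletion.eval (maximalIdeal B) B 1 y)
      have he : y - algebraMap B Bh b ∈ (maximalIdeal B ^ 1 • ⊤ : Submodule B Bh) := by
        rw [AdicCompletion.pow_smul_top_eq_ker_eval (maximalIdeal B).fg_of_isNoetherianRing, LinearMap.mem_ker,
          map_sub, AdicCompletion.algebraMap_apply, AdicCompletion.eval_of]
        exact sub_eq_zero.2 hb.symm
      rw [pow_one, Ideal.smul_top_eq_map, Submodule.restrictScalars_mem, hmB] at he
      refine ⟨b, ?_⟩
      rw [IsScalarTower.algebraMap_apply B Bh (ResidueField Bh), IsLocalRing.ResidueField.algebraMap_eq, eq_comm,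
        ← sub_eq_zero, ← map_sub, IsLocalRing.residue_eq_zero_iff]
      exact he
    haveI : Module.Finite A (ResidueField Bh) := by
      refine Module.Finite.of_surjective
        (IsScalarTower.toAlgHom A (ResidueField B) (ResidueField Bh)).toLinearMap fun y => ?_
      obtain ⟨b, rfl⟩ := hs y
      exact ⟨IsLocalRing.residue B b, rfl⟩
    exact Module.Finite.of_restrictScalars_finite A Ah _
  · intro K _ _ hK
    letI : Algebra A K := ((algebraMap Ah K).comp (algebraMap A Ah)).toAlgebra
    haveI : IsScalarTower A Ah K := IsScalarTower.of_algebraMap_eq fun _ => rfl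
    haveI : (RingHom.ker (algebraMap Ah K)).IsPrime := RingHom.ker_isPrime _
    have hker : RingHom.ker (algebraMap Ah K) = maximalIdeal Ah := by
      refine eq_maximalIdeal ?_
      haveI : Algebra.IsIntegral Ah K := Algebra.IsIntegral.of_finite Ah K
      rw [RingHom.ker_eq_comap_bot]
      exact Ideal.isMaximal_comap_of_isIntegral_of_isMaximal (⊥ : Ideal K)
    have h0 : ∀ e ∈ maximalIdeal Ah, algebraMap Ah K e = 0 := fun e he => by
      rwa [← hker, RingHom.mem_ker] at he
    haveI : Module.Finite A K := by
      obtain ⟨s, hs⟩ := hK.fg_top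
      refine ⟨⟨s, eq_top_iff.2 fun z _ => ?_⟩⟩
      have hz : z ∈ Submodule.span Ah (s : Set K) := hs ▸ Submodule.mem_top
      refine Submodule.span_induction (p := fun z _ => z ∈ Submodule.span A (s : Set K))
        (fun z hz => Submodule.subset_span hz) (zero_mem _) (fun _ _ _ _ => add_mem) (fun c z _ hz => ?_) hz
      obtain ⟨a, ha⟩ := hsurj c
      have : c • z = a • z := by
        rw [← algebraMap_smul Ah a z, ← sub_eq_zero, ← sub_smul, Algebra.smul_def, h0 _ ha, zero_mul]
      rw [this]
      exact Submodule.smul_mem _ a hz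
    haveI : CompatibleSMul A Ah K Bh := by
      refine ⟨fun c z y => ?_⟩
      obtain ⟨a, ha⟩ := hsurj c
      rw [← hm] at ha
      have hzero : ∀ e ∈ (maximalIdeal A).map (algebraMap A Ah), ∀ (z : K) (y : Bh),
          z ⊗ₜ[A] (e • y) = 0 := by
        intro e he
        refine Submodule.span_induction (p := fun e _ => ∀ (z : K) (y : Bh), z ⊗ₜ[A] (e • y) = 0) ?_ ?_ ?_ ?_ he
        · rintro _ ⟨r, hr, rfl⟩ z y
          rw [algebraMap_smul, tmul_smul, smul_tmul']
          have : r • z = 0 := by
            rw [← algebraMap_smul Ah r z, Algebra.smul_def,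
              h0 _ (hm ▸ Ideal.mem_map_of_mem _ hr), zero_mul]
          rw [this, zero_tmul]
        · intro z y
          rw [zero_smul, tmul_zero]
        · intro e₁ e₂ _ _ h1 h2 z y
          rw [add_smul, tmul_add, h1, h2, add_zero]
        · intro b e _ h1 z y
          have hb : (b • e) • y = e • (b • y) := by rw [smul_eq_mul, mul_comm, mul_smul]
          rw [hb]
          exact h1 _ _
      have h1 : c • z = a • z := by
        rw [← algebraMap_smul Ah a z, ← sub_eq_zero, ← sub_smul, Algebra.smul_def, h0 _ (hm ▸ ha), zero_mul]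
      have h2 : z ⊗ₜ[A] (c • y) = z ⊗ₜ[A] (a • y) := by
        rw [← sub_eq_zero, ← tmul_sub, ← algebraMap_smul Ah a y, ← sub_smul]
        exact hzero _ ha z y
      rw [h1, h2, smul_tmul]
    let κ := (maximalIdeal A).ResidueField
    have hAK : ∀ x ∈ maximalIdeal A, algebraMap A K x = 0 := fun x hx => by
      rw [IsScalarTower.algebraMap_apply A Ah K]
      exact h0 _ (hm ▸ Ideal.mem_map_of_mem _ hx)
    let φ : κ →+* K := Ideal.ResidueField.lift (maximalIdeal A) (algebraMap A K)
      (fun x hx => RingHom.mem_ker.2 (hAK x hx))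
      (fun x hx => (IsLocalRing.notMem_maximalIdeal.1 hx).map _)
    letI : Algebra κ K := φ.toAlgebra
    haveI : IsScalarTower A κ K := IsScalarTower.of_algebraMap_eq fun x =>
      (Ideal.ResidueField.lift_algebraMap _ _ _ _ x).symm
    haveI : Module.Finite κ K := Module.Finite.of_restrictScalars_finite A κ K
    exact hG.congr ((Algebra.TensorProduct.cancelBaseChange A κ κ K Bh).toRingEquiv.trans
      (Algebra.TensorProduct.equivOfCompatibleSMul Ah A A K Bh).toRingEquiv) (h K inferInstance)

end GrothLib.FibProp5

namespace GrothLib.FibProp5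

/-- The completion map as an algebra structure. -/
theorem exists_completion_algebra (A B : Type u) [CommRing A] [CommRing B] [IsLocalRing A] [IsLocalRing B]
    [IsNoetherianRing B] [Algebra A B] [IsLocalHom (algebraMap A B)] :
    ∃ _ : Algebra (AdicCompletion (maximalIdeal A) A) (AdicCompletion (maximalIdeal B) B),
      IsScalarTower A (AdicCompletion (maximalIdeal A) A) (AdicCompletion (maximalIdeal B) B) := by
  obtain ⟨ψ, hψ⟩ := GrothLib.GeomReg.exists_completion_map A B
  letI := ψ.toAlgebra
  exact ⟨ψ.toAlgebra, IsScalarTower.of_algebraMap_eq fun a =>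
    ((RingHom.congr_fun hψ a).trans (IsScalarTower.algebraMap_apply A B _ a).symm).symm⟩

/-- The closed fibre hypothesis of the complete case, from the fibre form. -/
theorem closedGood_of_fibre {G : RProp.{u}} (hG : Good G) {A B : Type u} [CommRing A] [CommRing B] [IsLocalRing A]
    [Algebra A B]
    (h : ∀ (K : Type u) [Field K] [Algebra (maximalIdeal A).ResidueField K],
      Module.Finite (maximalIdeal A).ResidueField K →
        G (K ⊗[(maximalIdeal A).ResidueField] (maximalIdeal A).Fiber B)) : ClosedGood G A B := by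
  intro K _ _ hK
  have hker : RingHom.ker (algebraMap A K) = maximalIdeal A := by
    refine eq_maximalIdeal ?_
    haveI : Algebra.IsIntegral A K := Algebra.IsIntegral.of_finite A K
    rw [RingHom.ker_eq_comap_bot]
    exact Ideal.isMaximal_comap_of_isIntegral_of_isMaximal (⊥ : Ideal K)
  let φ : (maximalIdeal A).ResidueField →+* K := Ideal.ResidueField.lift (maximalIdeal A) (algebraMap A K)
    hker.ge (fun x hx => (IsLocalRing.notMem_maximalIdeal.1 hx).map _)
  letI : Algebra (maximalIdeal A).ResidueField K := φ.toAlgebra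
  haveI : IsScalarTower A (maximalIdeal A).ResidueField K := IsScalarTower.of_algebraMap_eq fun x =>
    (Ideal.ResidueField.lift_algebraMap _ _ _ _ x).symm
  haveI : Module.Finite (maximalIdeal A).ResidueField K :=
    Module.Finite.of_restrictScalars_finite A _ K
  exact hG.congr (Algebra.TensorProduct.cancelBaseChange A (maximalIdeal A).ResidueField
    (maximalIdeal A).ResidueField K B).toRingEquiv (h K inferInstance)

end GrothLib.FibProp5
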