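import Mathlib.RingTheory.LocalRing.ResidueField.Basic
import Mathlib.RingTheory.Artinian.Ring
import Mathlib.RingTheory.Finiteness.Basic
import Mathlib.RingTheory.Ideal.Quotient.Operations
import Mathlib.Algebra.Module.Torsion.Basic

/-!
# Finite modules killed by a power of the maximal ideal
-/

universe u

open IsLocalRing

namespace GrothLib.FibProp5

variable (C : Type u) [CommRing C] {D : Type u} [CommRing D] [IsLocalRing D] [IsNoetherianRing D] [Algebra C D]
  [Module.Finite C (ResidueField D)]

/-- A finite module killed by a power of the maximal ideal is finite over `C` when the residue field is. -/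
theorem finite_of_pow_smul : ∀ (k : ℕ) (M : Type u) [AddCommGroup M] [Module C M] [Module D M]
    [IsScalarTower C D M] [Module.Finite D M], (maximalIdeal D ^ k • ⊤ : Submodule D M) = ⊥ → Module.Finite C M := by
  intro k
  induction k with
  | zero =>
    intro M _ _ _ _ _ h
    rw [pow_zero, one_smul] at h
    haveI : Subsingleton M := (Submodule.subsingleton_iff D).1 (subsingleton_of_top_le_bot h.le |> fun s => s)
    infer_instance
  | succ k ih =>
    intro M _ _ _ _ _ h
    let N : Submodule D M := maximalIdeal D • ⊤
    haveI : IsNoetherian D M := isNoetherian_of_isNoetherianRing_of_finite D M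
    haveI : Module.Finite D N := Module.Finite.of_fg (IsNoetherian.noetherian N)
    have hN : Module.Finite C N := by
      refine ih N (eq_bot_iff.2 fun z hz => ?_)
      have h1 : (N.subtype z : M) ∈ (maximalIdeal D ^ (k + 1) • ⊤ : Submodule D M) := by
        have h2 : Submodule.map N.subtype (maximalIdeal D ^ k • (⊤ : Submodule D N)) =
            maximalIdeal D ^ (k + 1) • ⊤ := by
          rw [Submodule.map_smul'', Submodule.map_top, Submodule.range_subtype, pow_succ, Submodule.mul_smul]
        exact h2 ▸ Submodule.mem_map_of_mem hz
      rw [h, Submodule.mem_bot] at h1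
      exact (Submodule.mem_bot D).2 (Subtype.ext h1)
    have hQ : Module.Finite C (M ⧸ N) := by
      have htor : Module.IsTorsionBySet D (M ⧸ N) (maximalIdeal D) := by
        rw [Module.isTorsionBySet_iff_subset_annihilator]
        intro r hr
        rw [SetLike.mem_coe, Module.mem_annihilator]
        intro y
        obtain ⟨y, rfl⟩ := N.mkQ_surjective y
        rw [← map_smul, Submodule.mkQ_apply, Submodule.Quotient.mk_eq_zero]
        exact Submodule.smul_mem_smul hr Submodule.mem_top
      letI : Module (ResidueField D) (M ⧸ N) := htor.module
      haveI : IsScalarTower D (ResidueField D) (M ⧸ N) := htor.isScalarTower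
      haveI : IsScalarTower C (ResidueField D) (M ⧸ N) := htor.isScalarTower
      haveI : Module.Finite (ResidueField D) (M ⧸ N) := Module.Finite.of_restrictScalars_finite D _ _
      exact Module.Finite.trans (ResidueField D) (M ⧸ N)
    haveI := hQ
    haveI : Module.Finite C (N.restrictScalars C) := hN
    haveI : Module.Finite C (M ⧸ N.restrictScalars C) := Module.Finite.equiv (Submodule.Quotient.restrictScalarsEquiv C N).symm
    exact Module.Finite.of_submodule_quotient (N.restrictScalars C)

/-- An Artinian finite algebra is finite over `C`. -/
theorem finite_of_isArtinianRing (E : Type u) [CommRing E] [IsLocalRing E] [IsArtinianRing E] [Algebra C E]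
    [Algebra D E] [IsScalarTower C D E] [IsLocalHom (algebraMap D E)] [Module.Finite D E] :
    Module.Finite C E := by
  obtain ⟨k, hk⟩ := (IsArtinianRing.isNilpotent_jacobson_bot : IsNilpotent (Ideal.jacobson (⊥ : Ideal E)))
  refine finite_of_pow_smul C (D := D) k E (eq_bot_iff.2 fun z hz => ?_)
  rw [Ideal.smul_top_eq_map, Submodule.restrictScalars_mem, Ideal.map_pow] at hz
  have h1 : (maximalIdeal D).map (algebraMap D E) ≤ (⊥ : Ideal E).jacobson :=
    (Ideal.map_le_iff_le_comap.2 fun x hx => Ideal.mem_comap.2 (map_nonunit (algebraMap D E) x hx)).trans (maximalIdeal_le_jacobson _)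
  have h2 := Ideal.pow_right_mono h1 k hz
  rw [hk] at h2
  simpa using h2

end GrothLib.FibProp5
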