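import Groth.Agent.Lib.RegLoc.Basic
import Groth.Agent.Lib.AdicExtra.FiniteAlg
import Mathlib.RingTheory.Localization.LocalizationLocalization
import Mathlib.RingTheory.Flat.Basic
import Mathlib.RingTheory.TensorProduct.Quotient
import Mathlib.RingTheory.TensorProduct.Maps

/-!
# Properties of Noetherian rings which propagate from closed fibres

`Good G`: `G` is local, stable under localization, climbs from a regular quotient and has open locus
on complete local rings.
-/

universe u

open IsLocalRing TensorProduct

namespace GrothLib.FibProp5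

/-- A predicate on rings. -/
abbrev RProp := ∀ (R : Type u) [CommRing R], Prop

/-- `G` holds at the prime `q`. -/
def At (G : RProp.{u}) {T : Type u} [CommRing T] (q : Ideal T) [q.IsPrime] : Prop :=
  G (Localization.AtPrime q)

/-- The hypotheses on a property. -/
structure Good (G : RProp.{u}) : Prop where
  congr : ∀ {R S : Type u} [CommRing R] [CommRing S], (R ≃+* S) → G R → G S
  localization : ∀ {R : Type u} [CommRing R] [IsNoetherianRing R] (S : Type u) [CommRing S] [Algebra R S]
    (M : Submonoid R) [IsLocalization M S], G R → G S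
  of_atPrime : ∀ (R : Type u) [CommRing R] [IsNoetherianRing R], (∀ (p : Ideal R) [p.IsPrime], At G p) → G R
  of_quotient : ∀ (R : Type u) [CommRing R] [IsNoetherianRing R] [IsLocalRing R] (t : R),
    t ∈ maximalIdeal R → IsSMulRegular R t → G (R ⧸ Ideal.span {t}) → G R
  isOpen : ∀ (R : Type u) [CommRing R] [IsNoetherianRing R] [IsLocalRing R] [IsAdicComplete (maximalIdeal R) R],
    IsOpen {x : PrimeSpectrum R | At G x.asIdeal}

/-- The closed fibre is geometrically `G`: all `K ⊗ D` with `K` a field finite over the base. -/
def ClosedGood (G : RProp.{u}) (C D : Type u) [CommRing C] [CommRing D] [Algebra C D] : Prop :=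
  ∀ (K : Type u) [Field K] [Algebra C K], Module.Finite C K → G (K ⊗[C] D)

variable {G : RProp.{u}}

theorem at_congr {T : Type u} [CommRing T] {p q : Ideal T} [p.IsPrime] [q.IsPrime] (h : p = q) :
    At G p ↔ At G q := by
  subst h
  rfl

/-- `G` at a prime may be tested in any localization. -/
theorem at_comap_iff (hG : Good G) {T : Type u} (S : Type u) [CommRing T] [CommRing S] [Algebra T S]
    (M : Submonoid T) [IsLocalization M S] (r : Ideal S) [r.IsPrime] :
    At G (r.comap (algebraMap T S)) ↔ At G r := by
  haveI : IsLocalization.AtPrime (Localization.AtPrime r) (r.comap (algebraMap T S)) :=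
    IsLocalization.isLocalization_isLocalization_atPrime_isLocalization M (Localization.AtPrime r) r
  let e := (IsLocalization.algEquiv (r.comap (algebraMap T S)).primeCompl
    (Localization.AtPrime (r.comap (algebraMap T S))) (Localization.AtPrime r)).toRingEquiv
  exact ⟨hG.congr e, hG.congr e.symm⟩

/-- A localization is good as soon as it is good at all the contracted primes. -/
theorem of_forall_comap (hG : Good G) {T : Type u} (S : Type u) [CommRing T] [IsNoetherianRing T] [CommRing S]
    [Algebra T S] (M : Submonoid T) [IsLocalization M S]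
    (h : ∀ (r : Ideal S) [r.IsPrime], At G (r.comap (algebraMap T S))) : G S :=
  haveI : IsNoetherianRing S := IsLocalization.isNoetherianRing M S inferInstance
  hG.of_atPrime S fun r _ => (at_comap_iff hG S M r).1 (h r)

theorem at_of_good (hG : Good G) {T : Type u} (S : Type u) [CommRing T] [IsNoetherianRing T] [CommRing S]
    [Algebra T S] (M : Submonoid T) [IsLocalization M S] (hS : G S) (q : Ideal T) [q.IsPrime]
    (hq : Disjoint (M : Set T) q) : At G q := by
  haveI : IsNoetherianRing S := IsLocalization.isNoetherianRing M S inferInstance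
  haveI := IsLocalization.isPrime_of_isPrime_disjoint M S q inferInstance hq
  rw [← at_congr (IsLocalization.under_map_of_isPrime_disjoint M S inferInstance hq)]
  exact (at_comap_iff hG S M _).2 (hG.localization (Localization.AtPrime (q.map (algebraMap T S))) (q.map (algebraMap T S)).primeCompl hS)

theorem at_congr_equiv (hG : Good G) {T T' : Type u} [CommRing T] [CommRing T'] (e : T ≃+* T')
    (q : Ideal T') [q.IsPrime] (h : At G (q.comap e.toRingHom)) : At G q := by
  refine hG.congr (IsLocalization.ringEquivOfRingEquiv (M := (q.comap e.toRingHom).primeCompl)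
    (T := q.primeCompl) (Localization.AtPrime (q.comap e.toRingHom)) (Localization.AtPrime q) e ?_) h
  ext x
  refine ⟨?_, fun hx => ⟨e.symm x, fun hm => hx (by simpa using hm), e.apply_symm_apply x⟩⟩
  rintro ⟨y, hy, rfl⟩
  exact hy

/-- `G` of the local ring gives `G` at each of its primes. -/
theorem at_of_local (hG : Good G) {E : Type u} [CommRing E] [IsNoetherianRing E] (h : G E)
    (q : Ideal E) [q.IsPrime] : At G q :=
  hG.localization _ q.primeCompl h

/-- A flat local algebra over a regular local ring with good closed fibre is good. -/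
theorem of_flat_regular (hG : Good G) : ∀ (n : ℕ) (R : Type u) [CommRing R] [IsRegularLocalRing R]
    (S : Type u) [CommRing S] [IsNoetherianRing S] [IsLocalRing S] [Algebra R S] [IsLocalHom (algebraMap R S)]
    [Module.Flat R S], ringKrullDim R = n →
    G (S ⧸ (maximalIdeal R).map (algebraMap R S)) → G S := by
  intro n
  induction n with
  | zero =>
    intro R _ _ S _ _ _ _ _ _ hn hS
    haveI : IsDomain R := GrothLib.CMFree.isDomain_of_isRegularLocalRing R
    have hm : maximalIdeal R = ⊥ := by
      haveI : Ring.KrullDimLE 0 R := Ring.krullDimLE_iff.2 hn.le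
      exact (IsLocalRing.isField_iff_maximalIdeal_eq).1 Ring.KrullDimLE.isField_of_isDomain
    rw [hm, Ideal.map_bot] at hS
    exact hG.congr (RingEquiv.quotientBot S) hS
  | succ n ih =>
    intro R _ _ S _ _ _ _ _ _ hn hS
    obtain ⟨t, ht, ht2⟩ : ∃ t ∈ maximalIdeal R, t ∉ maximalIdeal R ^ 2 := by
      by_contra hcon
      push Not at hcon
      have hb : maximalIdeal R = ⊥ :=
        Submodule.eq_bot_of_le_smul_of_le_jacobson_bot _ _ (IsNoetherian.noetherian _)
          (by rw [Ideal.smul_eq_mul, ← pow_two]; exact hcon) (maximalIdeal_le_jacobson _)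
      have h0 : ringKrullDim R = 0 := ringKrullDim_eq_zero_of_isField (isField_iff_maximalIdeal_eq.2 hb)
      rw [hn] at h0
      exact absurd (show n + 1 = 0 by exact_mod_cast h0) n.succ_ne_zero
    haveI : IsDomain R := GrothLib.CMFree.isDomain_of_isRegularLocalRing R
    have htne : t ≠ 0 := fun h0 => ht2 (h0 ▸ zero_mem _)
    have hle : Ideal.span {t} ≤ maximalIdeal R := (Ideal.span_singleton_le_iff_mem _).2 ht
    haveI : IsLocalRing (R ⧸ Ideal.span {t}) := GrothLib.RegLoc.isLocalRing_quotient hle
    obtain ⟨hqreg, hqdim, -⟩ := GrothLib.RegLoc.quotient_isRegularLocalRing ht ht2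
    haveI := hqreg
    set t' : S := algebraMap R S t
    have ht' : t' ∈ maximalIdeal S := map_nonunit (algebraMap R S) t ht
    have hle' : Ideal.span {t'} ≤ maximalIdeal S := (Ideal.span_singleton_le_iff_mem _).2 ht'
    haveI : IsLocalRing (S ⧸ Ideal.span {t'}) := GrothLib.RegLoc.isLocalRing_quotient hle'
    have hreg : IsSMulRegular S t' := by
      intro a b hab
      have h1 : IsSMulRegular S t := Module.Flat.isSMulRegular_of_isRegular (IsRegular.of_ne_zero htne)
      exact h1 ((Algebra.smul_def t a).trans (hab.trans (Algebra.smul_def t b).symm))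
    refine hG.of_quotient S t' ht' hreg ?_
    have hmap : (Ideal.span {t}).map (algebraMap R S) = Ideal.span {t'} := by
      rw [Ideal.map_span, Set.image_singleton]
    letI : Algebra (R ⧸ Ideal.span {t}) (S ⧸ Ideal.span {t'}) :=
      (Ideal.quotientMap _ (algebraMap R S) (Ideal.map_le_iff_le_comap.1 hmap.le)).toAlgebra
    haveI : IsLocalHom (algebraMap (R ⧸ Ideal.span {t}) (S ⧸ Ideal.span {t'})) := by
      constructor
      intro a ha
      obtain ⟨a, rfl⟩ := Ideal.Quotient.mk_surjective a
      refine IsUnit.map _ (isUnit_of_map_unit (algebraMap R S) a ?_)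
      haveI := IsLocalHom.of_surjective (Ideal.Quotient.mk (Ideal.span {t'})) Ideal.Quotient.mk_surjective
      exact isUnit_of_map_unit (Ideal.Quotient.mk (Ideal.span {t'})) _ ha
    haveI : IsScalarTower R (R ⧸ Ideal.span {t}) (S ⧸ Ideal.span {t'}) :=
      IsScalarTower.of_algebraMap_eq fun _ => rfl
    haveI : Module.Flat (R ⧸ Ideal.span {t}) (S ⧸ Ideal.span {t'}) := by
      have h1 : Module.Flat (R ⧸ Ideal.span {t}) ((R ⧸ Ideal.span {t}) ⊗[R] S) := inferInstance
      refine Module.Flat.of_linearEquiv
        ((LinearEquiv.extendScalarsOfSurjective (Ideal.Quotient.mk_surjective (I := Ideal.span {t}))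
          (((Algebra.TensorProduct.quotIdealMapEquivTensorQuot S (Ideal.span {t})).toLinearEquiv.restrictScalars R).symm ≪≫ₗ
            (Submodule.quotEquivOfEq _ _ hmap).restrictScalars R |> fun e =>
              (TensorProduct.comm R (R ⧸ Ideal.span {t}) S) ≪≫ₗ e)).symm)
    refine ih (R ⧸ Ideal.span {t}) (S ⧸ Ideal.span {t'}) ?_ ?_
    · obtain ⟨d, hd, -⟩ := GrothLib.RegLoc.exists_dim_eq (R := R ⧸ Ideal.span {t})
      rw [hn, hd] at hqdim
      rw [hd]
      exact_mod_cast Nat.add_right_cancel (by exact_mod_cast hqdim : d + 1 = n + 1)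
    · refine hG.congr ?_ hS
      have e2 : ((maximalIdeal (R ⧸ Ideal.span {t})).map
          (algebraMap (R ⧸ Ideal.span {t}) (S ⧸ Ideal.span {t'}))) =
          ((maximalIdeal R).map (algebraMap R S)).map (Ideal.Quotient.mk (Ideal.span {t'})) := by
        rw [← GrothLib.RegLoc.map_maximalIdeal_quotient (Ideal.span {t}), Ideal.map_map, Ideal.map_map]
        rfl
      exact (DoubleQuot.quotQuotEquivQuotOfLE (hmap ▸ Ideal.map_mono hle)).symm.trans
        (Ideal.quotEquivOfEq e2.symm)

end GrothLib.FibProp5
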