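import Groth.Agent.Lib.FibProp5.Semilocal
import Groth.Agent.Lib.FibProp5.Length
import Groth.Agent.Lib.AdicExtra.Complete
import Groth.Agent.Lib.N2.Reduced
import Groth.Agent.Lib.Cohen.NagataMain
import Groth.Agent.Lib.J2.Complete
import Groth.Agent.Lib.J2.FiniteType
import Groth.Agent.Lib.Dim.Ring
import Groth.Agent.Lib.Excellent.FlatFibres
import Groth.Agent.Lib.Excellent.NorCriteria
import Mathlib.RingTheory.DiscreteValuationRing.TFAE
import Mathlib.RingTheory.KrullDimension.NonZeroDivisors
import Mathlib.RingTheory.Ideal.KrullsHeightTheorem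
import Mathlib.RingTheory.Localization.Integral
import Mathlib.RingTheory.IntegralClosure.IntegrallyClosed

/-!
# Propagation of properties from the closed fibre over a complete local base

For a flat local map of complete Noetherian local rings with finite residue extension and
geometrically good closed fibre, all fibres are geometrically good.
-/

universe u

open IsLocalRing TensorProduct nonZeroDivisors

namespace GrothLib.FibProp5

variable {G : RProp.{u}}

theorem le_of_add_one_le {a b : WithBot ℕ∞} (h : a + 1 ≤ b + 1) : a ≤ b := by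
  induction a with
  | bot => exact bot_le
  | coe a =>
    induction b with
    | bot => simp at h
    | coe b =>
      rw [← WithBot.coe_one, ← WithBot.coe_add, ← WithBot.coe_add, WithBot.coe_le_coe] at h
      exact WithBot.coe_le_coe.2 ((ENat.add_le_add_iff_right (by simp)).1 h)

/-- In a Noetherian local domain of dimension `≥ 2` some nonzero prime avoids a given nonzero element. -/
theorem exists_prime_notMem (R : Type u) [CommRing R] [IsDomain R] [IsLocalRing R] [IsNoetherianRing R]
    (hdim : ¬ ringKrullDim R ≤ 1) (b : R) (hb : b ≠ 0) :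
    ∃ x : Ideal R, x.IsPrime ∧ x ≠ ⊥ ∧ b ∉ x := by
  classical
  by_contra hcon
  push Not at hcon
  by_cases hbu : b ∈ maximalIdeal R
  · have hfin := Ideal.finite_minimalPrimes_of_isNoetherianRing R (Ideal.span {b})
    have hsub : (maximalIdeal R : Set R) ⊆ ⋃ P ∈ (Ideal.span {b}).minimalPrimes, (P : Set R) := by
      intro y hy
      by_cases hy0 : y = 0
      · obtain ⟨P, hP, -⟩ := Ideal.exists_minimalPrimes_le
          (I := Ideal.span {b}) ((Ideal.span_singleton_le_iff_mem _).2 hbu)
        exact Set.mem_biUnion hP (hy0 ▸ P.zero_mem)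
      obtain ⟨Q, hQ, -⟩ := Ideal.exists_minimalPrimes_le
        (I := Ideal.span {y}) ((Ideal.span_singleton_le_iff_mem _).2 hy)
      haveI := hQ.1.1
      have hyQ : y ∈ Q := hQ.1.2 (Ideal.mem_span_singleton_self y)
      have hbQ : b ∈ Q := hcon Q hQ.1.1 (fun h => hy0 (by simpa [h] using hyQ))
      obtain ⟨P, hP, hPQ⟩ := Ideal.exists_minimalPrimes_le
        (I := Ideal.span {b}) ((Ideal.span_singleton_le_iff_mem _).2 hbQ)
      haveI := hP.1.1
      have h1 : P.height ≠ 0 := fun h0 => by
        have : P = ⊥ := by
          rw [Ideal.height_eq_zero_iff, IsDomain.minimalPrimes_eq_singleton_bot] at h0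
          exact h0
        exact hb (by simpa [this] using hP.1.2 (Ideal.mem_span_singleton_self b))
      have h2 : Q.height ≤ 1 := Ideal.height_le_one_of_isPrincipal_of_mem_minimalPrimes (Ideal.span {y}) Q hQ
      have : P = Q := by
        by_contra hne
        have hlt : P < Q := lt_of_le_of_ne hPQ hne
        haveI : P.FiniteHeight := inferInstance
        have h3 := Ideal.height_strict_mono_of_isPrime hlt
        exact h1 (ENat.lt_one_iff_eq_zero.1 (h3.trans_le h2))
      exact Set.mem_biUnion hP (this ▸ hyQ)
    obtain ⟨P, hP, hle⟩ := (Ideal.subset_union_prime_finite hfin ⊥ ⊥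
      (fun P hP _ _ => hP.1.1)).1 hsub
    haveI := hP.1.1
    have : P = maximalIdeal R :=
      le_antisymm (le_maximalIdeal (Ideal.IsPrime.ne_top inferInstance)) hle
    have h2 : (maximalIdeal R).height ≤ 1 := this ▸
      Ideal.height_le_one_of_isPrincipal_of_mem_minimalPrimes (Ideal.span {b}) P hP
    apply hdim
    rw [← IsLocalRing.maximalIdeal_height_eq_ringKrullDim]
    exact_mod_cast h2
  · apply hdim
    have hbot : maximalIdeal R = ⊥ := by
      by_contra hne
      exact hbu (hcon _ inferInstance hne)
    rw [ringKrullDim_eq_zero_of_isField (isField_iff_maximalIdeal_eq.2 hbot)]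
    exact zero_le_one

/-- The base change to the fraction field of a finite domain over the base. -/
theorem good_field_tensor (hG : Good G) {C : Type u} [CommRing C] [IsLocalRing C] [IsNoetherianRing C]
    {D : Type u} [CommRing D] [IsLocalRing D] [IsNoetherianRing D] [IsAdicComplete (maximalIdeal D) D]
    [Algebra C D] [IsLocalHom (algebraMap C D)] [Module.Flat C D]
    (hres : Module.Finite C (ResidueField D)) (hcl : ClosedGood G C D)
    (C' : Type u) [CommRing C'] [IsDomain C'] [IsLocalRing C'] [Algebra C C'] [Module.Finite C C']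
    (H : LocalCase G C') (K : Type u) [Field K] [Algebra C K] [Algebra C' K] [IsScalarTower C C' K]
    [IsFractionRing C' K] : G (K ⊗[C] D) := by
  letI : Algebra C' (D ⊗[C] C') := Algebra.TensorProduct.rightAlgebra
  haveI : IsNoetherianRing (D ⊗[C] C') := IsNoetherianRing.of_finite D _
  have h1 : G ((D ⊗[C] C') ⊗[C'] K) := by
    refine of_forall_comap hG ((D ⊗[C] C') ⊗[C'] K) (Algebra.algebraMapSubmonoid (D ⊗[C] C') C'⁰)
      fun r _ => at_tensor_of_localCase hG hres hcl C' H _ ?_
    refine eq_bot_iff.2 fun c hc => ?_
    by_contra hc0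
    refine Ideal.IsPrime.ne_top (I := r) inferInstance (Ideal.eq_top_of_isUnit_mem _ ?_
      (IsLocalization.map_units ((D ⊗[C] C') ⊗[C'] K)
        (⟨algebraMap C' (D ⊗[C] C') c, Algebra.mem_algebraMapSubmonoid_of_mem
          ⟨c, mem_nonZeroDivisors_of_ne_zero (by simpa using hc0)⟩⟩ :
          Algebra.algebraMapSubmonoid (D ⊗[C] C') C'⁰)))
    exact hc
  exact hG.congr
    (((Algebra.TensorProduct.comm C' (D ⊗[C] C') K).toRingEquiv).trans
      (((Algebra.TensorProduct.congr (AlgEquiv.refl (R := C') (A₁ := K))
          (Algebra.TensorProduct.commRight C C' D).symm).toRingEquiv).trans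
        (Algebra.TensorProduct.cancelBaseChange C C' C' K D).toRingEquiv)) h1

/-- The main induction: `G` holds over the generic point of every complete local domain. -/
theorem localCase (hG : Good G) : ∀ (n : ℕ) (C : Type u) [CommRing C] [IsDomain C] [IsLocalRing C]
    [IsNoetherianRing C] [IsAdicComplete (maximalIdeal C) C], ringKrullDim C ≤ n → LocalCase G C := by
  intro n
  induction n with
  | zero =>
    intro C _ _ _ _ _ hn
    haveI : Ring.KrullDimLE 0 C := Ring.krullDimLE_iff.2 hn
    letI := (Ring.KrullDimLE.isField_of_isDomain (R := C)).toField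
    exact localCase_of_regular hG C
  | succ n ih =>
    intro C _ _ _ _ _ hn D _ _ _ _ _ _ _ hres hcl q _ hq
    by_cases h1 : ringKrullDim C ≤ 1
    · -- the normalization is regular
      let K := FractionRing C
      haveI : Module.Finite C (integralClosure C K) :=
        GrothLib.N2.finite_integralClosure_field (GrothLib.Cohen.isNagata_of_isAdicComplete C) K
      haveI := isLocalRing_of_finite_domain C (integralClosure C K)
      haveI : IsFractionRing (integralClosure C K) K := integralClosure.isFractionRing_of_finite_extension K K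
      haveI : IsIntegrallyClosed (integralClosure C K) := integralClosure.isIntegrallyClosedOfFiniteExtension K
      haveI : IsNoetherianRing (integralClosure C K) := IsNoetherianRing.of_finite C _
      haveI : Algebra.IsIntegral C (integralClosure C K) := Algebra.IsIntegral.of_finite C _
      have hd : ringKrullDim (integralClosure C K) ≤ 1 :=
        (GrothLib.Dim.ringKrullDim_le_of_isIntegral C _).trans h1
      haveI : IsRegularLocalRing (integralClosure C K) := by
        by_cases hf : IsField (integralClosure C K)
        · letI := hf.toField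
          exact inferInstanceAs (IsRegularLocalRing (integralClosure C K))
        · haveI : Ring.KrullDimLE 1 (integralClosure C K) := Ring.krullDimLE_iff.2 hd
          have huniq : ∃! P : Ideal (integralClosure C K), P ≠ ⊥ ∧ P.IsPrime := by
            refine ⟨maximalIdeal _, ⟨fun h => hf (isField_iff_maximalIdeal_eq.2 h), inferInstance⟩, ?_⟩
            rintro P ⟨hP0, hP⟩
            rcases Ring.krullDimLE_one_iff.1 ‹_› P hP with h | h
            · rw [IsDomain.minimalPrimes_eq_singleton_bot] at h
              exact absurd h hP0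
            · exact eq_maximalIdeal h
          haveI : IsDiscreteValuationRing (integralClosure C K) :=
            ((IsDiscreteValuationRing.TFAE (integralClosure C K) hf).out 0 3 rfl rfl).2 ⟨inferInstance, huniq⟩
          exact inferInstance
      have hK := good_field_tensor hG hres hcl (integralClosure C K) (localCase_of_regular hG _) K
      letI : Algebra D (K ⊗[C] D) := Algebra.TensorProduct.rightAlgebra
      refine at_of_good hG (K ⊗[C] D) (Algebra.algebraMapSubmonoid D C⁰) hK q ?_
      rw [Set.disjoint_left]
      rintro _ ⟨c, hc, rfl⟩ hcq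
      exact nonZeroDivisors.ne_zero hc (by simpa [hq] using (Ideal.mem_comap.2 hcq : c ∈ q.comap (algebraMap C D)))
    · by_contra hbad
      obtain ⟨Q, ⟨hQp, hQq, hQbad⟩, hQmax⟩ : ∃ Q : Ideal D, (∃ _ : Q.IsPrime,
          Q.comap (algebraMap C D) = ⊥ ∧ ¬ At G Q) ∧
          ∀ Q' : Ideal D, (∃ _ : Q'.IsPrime, Q'.comap (algebraMap C D) = ⊥ ∧ ¬ At G Q') → ¬ Q < Q' := by
        obtain ⟨Q, hQ, hmax⟩ := set_has_maximal_iff_noetherian.2 (inferInstance : IsNoetherian D D)
          {Q : Ideal D | ∃ _ : Q.IsPrime, Q.comap (algebraMap C D) = ⊥ ∧ ¬ At G Q} ⟨q, inferInstance, hq, hbad⟩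
        exact ⟨Q, hQ, hmax⟩
      have hQle : Q ≤ maximalIdeal D := le_maximalIdeal hQp.ne_top
      -- an element of the base with regular localizations away from it
      have hopen : IsOpen (EGA4.regLocus C) :=
        GrothLib.J2.isJ2_of_finiteJ0 (GrothLib.J2.finiteJ0_of_isAdicComplete C) C inferInstance
      obtain ⟨a, ha0, hareg⟩ : ∃ a : C, a ≠ 0 ∧ ∀ p : PrimeSpectrum C, a ∉ p.asIdeal → p ∈ EGA4.regLocus C := by
        haveI : (⊥ : Ideal C).IsPrime := Ideal.isPrime_bot
        have h0 : (⟨⊥, Ideal.isPrime_bot⟩ : PrimeSpectrum C) ∈ EGA4.regLocus C := by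
          haveI : IsDomain (Localization.AtPrime (⊥ : Ideal C)) :=
            IsLocalization.isDomain_of_le_nonZeroDivisors (S := Localization.AtPrime (⊥ : Ideal C))
              (M := (⊥ : Ideal C).primeCompl) (Ideal.primeCompl_le_nonZeroDivisors _)
          have hm : maximalIdeal (Localization.AtPrime (⊥ : Ideal C)) = ⊥ := by
            rw [← Localization.AtPrime.map_eq_maximalIdeal, Ideal.map_bot]
          letI := (isField_iff_maximalIdeal_eq.2 hm).toField
          exact (inferInstance : IsRegularLocalRing (Localization.AtPrime (⊥ : Ideal C)))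
        obtain ⟨_, ⟨_, ⟨a, rfl⟩, rfl⟩, haP, hsub⟩ :=
          PrimeSpectrum.isBasis_basic_opens.exists_subset_of_mem_open h0 hopen
        exact ⟨a, fun h => haP (by simp [h]), fun p hp => hsub hp⟩
      haveI hDQl : IsLocalRing (D ⧸ Q) := GrothLib.RegLoc.isLocalRing_quotient hQle
      have hinj : Function.Injective (algebraMap C (D ⧸ Q)) := by
        rw [injective_iff_map_eq_zero]
        intro c hc
        rw [IsScalarTower.algebraMap_apply C D (D ⧸ Q), Ideal.Quotient.algebraMap_eq,
          Ideal.Quotient.eq_zero_iff_mem] at hc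
        simpa [hQq] using (Ideal.mem_comap.2 hc : c ∈ Q.comap (algebraMap C D))
      -- the quotient by `Q` has dimension at least two
      have hdim : ¬ ringKrullDim (D ⧸ Q) ≤ 1 := by
        intro hle
        haveI : IsDomain (D ⧸ Q) := inferInstance
        haveI : Module.Finite C (D ⧸ Q) := by
          haveI : IsLocalHom (algebraMap C (D ⧸ Q)) := by
            haveI := IsLocalHom.of_surjective (Ideal.Quotient.mk Q) Ideal.Quotient.mk_surjective
            rw [IsScalarTower.algebraMap_eq C D (D ⧸ Q), Ideal.Quotient.algebraMap_eq]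
            exact RingHom.isLocalHom_comp _ _
          obtain ⟨c, hc, hc0⟩ : ∃ c ∈ maximalIdeal C, c ≠ 0 := by
            by_contra hcon
            push Not at hcon
            refine h1 ?_
            rw [ringKrullDim_eq_zero_of_isField
              (isField_iff_maximalIdeal_eq.2 (eq_bot_iff.2 fun c hc => by simpa using hcon c hc))]
            exact zero_le_one
          set J := (maximalIdeal C).map (algebraMap C (D ⧸ Q))
          have hJle : J ≤ maximalIdeal (D ⧸ Q) :=
            Ideal.map_le_iff_le_comap.2 fun x hx => map_nonunit _ x hx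
          have hcb : algebraMap C (D ⧸ Q) c ≠ 0 := fun h => hc0 ((injective_iff_map_eq_zero _).1 hinj c h)
          have hsucc := ringKrullDim_quotient_succ_le_of_nonZeroDivisor (mem_nonZeroDivisors_of_ne_zero hcb)
          haveI : Ring.KrullDimLE 0 ((D ⧸ Q) ⧸ J) := by
            refine Ring.krullDimLE_iff.2 ?_
            have hcJ : Ideal.span {algebraMap C (D ⧸ Q) c} ≤ J :=
              (Ideal.span_singleton_le_iff_mem _).2 (Ideal.mem_map_of_mem _ hc)
            refine (ringKrullDim_le_of_surjective (Ideal.Quotient.factor hcJ)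
              (Ideal.Quotient.factor_surjective hcJ)).trans ?_
            have h2 : ringKrullDim ((D ⧸ Q) ⧸ Ideal.span {algebraMap C (D ⧸ Q) c}) + 1 ≤ 0 + 1 := by
              rw [zero_add]; exact hsucc.trans hle
            exact GrothLib.FibProp5.le_of_add_one_le h2
          haveI : IsArtinianRing ((D ⧸ Q) ⧸ J) := IsNoetherianRing.isArtinianRing_of_krullDimLE_zero
          haveI hJl : IsLocalRing ((D ⧸ Q) ⧸ J) := GrothLib.RegLoc.isLocalRing_quotient hJle
          haveI : IsLocalHom (algebraMap D ((D ⧸ Q) ⧸ J)) := by
            refine IsLocalHom.of_surjective _ ?_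
            rw [IsScalarTower.algebraMap_eq D (D ⧸ Q) ((D ⧸ Q) ⧸ J)]
            exact Ideal.Quotient.mk_surjective.comp Ideal.Quotient.mk_surjective
          haveI hfl : Module.Finite C ((D ⧸ Q) ⧸ J) := by
            haveI := hres
            haveI : Module.Finite D ((D ⧸ Q) ⧸ J) := inferInstance
            exact finite_of_isArtinianRing C (D := D) ((D ⧸ Q) ⧸ J)
          haveI : IsHausdorff (maximalIdeal C) (D ⧸ Q) := by
            refine ⟨fun x hx => IsHausdorff.haus (I := maximalIdeal (D ⧸ Q))
              (inferInstance : IsHausdorff _ (D ⧸ Q)) x fun k => ?_⟩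
            have h2 := hx k
            rw [SModEq.zero, Ideal.smul_top_eq_map, Submodule.restrictScalars_mem, Ideal.map_pow] at h2
            rw [SModEq.zero, smul_eq_mul, Ideal.mul_top]
            exact Ideal.pow_right_mono hJle k h2
          refine GrothLib.AdicExtra.finite_of_quotient_finite (I := maximalIdeal C) ?_
          refine Module.Finite.equiv (M := (D ⧸ Q) ⧸ J) ?_
          exact ((Submodule.quotEquivOfEq _ _ (Ideal.smul_top_eq_map (maximalIdeal C) (S := D ⧸ Q))).trans
            (Submodule.Quotient.restrictScalarsEquiv C J)).symm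
        haveI : Algebra.IsIntegral C (D ⧸ Q) := Algebra.IsIntegral.of_finite C _
        exact h1 ((GrothLib.Dim.ringKrullDim_eq_of_isIntegral hinj).symm.le.trans hle)
      -- choose a larger prime over a regular point
      obtain ⟨x', hx'p, hx'0, hx'a⟩ := exists_prime_notMem (D ⧸ Q) hdim (algebraMap C (D ⧸ Q) a)
        (fun h => ha0 ((injective_iff_map_eq_zero _).1 hinj a h))
      haveI := hx'p
      set x : Ideal D := x'.comap (Ideal.Quotient.mk Q) with hx
      have hQx : Q < x := by
        have hle : Q ≤ x := fun d hd => by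
          rw [hx, Ideal.mem_comap, Ideal.Quotient.eq_zero_iff_mem.2 hd]; exact zero_mem _
        refine lt_of_le_of_ne hle fun h => hx'0 ?_
        rw [← Ideal.map_comap_of_surjective _ Ideal.Quotient.mk_surjective x', ← hx, ← h,
          Ideal.map_quotient_self]
      set p : Ideal C := x.comap (algebraMap C D) with hp
      haveI : x.LiesOver p := ⟨hp⟩
      have hap : a ∉ p := hx'a
      haveI : IsRegularLocalRing (Localization.AtPrime p) := hareg ⟨p, inferInstance⟩ hap
      letI := Localization.AtPrime.algebraOfLiesOver p x
      have hopenG := hG.isOpen D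
      have hxbad : ¬ At G x := fun hgood =>
        hQbad (((PrimeSpectrum.le_iff_specializes (⟨Q, hQp⟩ : PrimeSpectrum D) ⟨x, inferInstance⟩).1
          hQx.le).mem_open hopenG hgood)
      have hp0 : p ≠ ⊥ := fun h => hQmax x ⟨inferInstance, h, hxbad⟩ hQx
      apply hxbad
      haveI : Module.Flat (Localization.AtPrime p) (Localization.AtPrime x) :=
        GrothLib.Excellent.flat_localization x p
      haveI : IsLocalHom (algebraMap (Localization.AtPrime p) (Localization.AtPrime x)) :=
        Localization.isLocalHom_localRingHom p x _ hp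
      obtain ⟨d, hd, -⟩ := GrothLib.RegLoc.exists_dim_eq (R := Localization.AtPrime p)
      show G (Localization.AtPrime x)
      refine of_flat_regular hG d (Localization.AtPrime p) (Localization.AtPrime x) hd ?_
      -- the fibre over `p` by induction
      haveI hpl : IsLocalRing (C ⧸ p) := GrothLib.RegLoc.isLocalRing_quotient (le_maximalIdeal
        (Ideal.IsPrime.ne_top inferInstance))
      haveI : Module.Finite C (C ⧸ p) := inferInstance
      haveI := isAdicComplete_of_finite_domain C (C ⧸ p)
      have hdimp : ringKrullDim (C ⧸ p) ≤ n := by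
        obtain ⟨c, hc, hc0⟩ := Submodule.exists_mem_ne_zero_of_ne_bot hp0
        have hsucc := ringKrullDim_quotient_succ_le_of_nonZeroDivisor (mem_nonZeroDivisors_of_ne_zero hc0)
        have hle : Ideal.span {c} ≤ p := (Ideal.span_singleton_le_iff_mem _).2 hc
        refine le_of_add_one_le ?_
        refine le_trans ?_ ((hsucc.trans hn).trans (Nat.cast_succ (R := WithBot ℕ∞) n).le)
        gcongr
        exact ringKrullDim_le_of_surjective (Ideal.Quotient.factor hle) (Ideal.Quotient.factor_surjective hle)
      have H := ih (C ⧸ p) hdimp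
      rw [GrothLib.Excellent.map_maximalIdeal_eq x p, IsScalarTower.algebraMap_eq C D (Localization.AtPrime x),
        ← Ideal.map_map]
      refine of_forall_comap hG _ (Algebra.algebraMapSubmonoid (D ⧸ p.map (algebraMap C D)) x.primeCompl)
        fun r _ => ?_
      let e : (D ⊗[C] (C ⧸ p)) ≃+* D ⧸ p.map (algebraMap C D) :=
        (Algebra.TensorProduct.quotIdealMapEquivTensorQuot D p).symm.toRingEquiv
      refine at_congr_equiv hG e _ (at_tensor_of_localCase hG hres hcl (C ⧸ p) H _ ?_)
      refine eq_bot_iff.2 fun cb hcb => ?_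
      obtain ⟨c, rfl⟩ := Ideal.Quotient.mk_surjective cb
      rw [Ideal.mem_bot, Ideal.Quotient.eq_zero_iff_mem, hp, Ideal.mem_comap]
      by_contra hcx
      have he : e (Algebra.TensorProduct.includeRight (R := C) (A := D) (Ideal.Quotient.mk p c)) =
          Ideal.Quotient.mk _ (algebraMap C D c) := by
        have h2 : Algebra.TensorProduct.includeRight (R := C) (A := D) (Ideal.Quotient.mk p c) =
            algebraMap C (D ⊗[C] (C ⧸ p)) c :=
          (Algebra.TensorProduct.includeRight (R := C) (A := D) (B := C ⧸ p)).commutes c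
        rw [h2, IsScalarTower.algebraMap_apply C D (D ⊗[C] (C ⧸ p))]
        exact (Algebra.TensorProduct.quotIdealMapEquivTensorQuot D p).symm.commutes _
      refine Ideal.IsPrime.ne_top (I := r) inferInstance (Ideal.eq_top_of_isUnit_mem _ ?_
        (IsLocalization.map_units _ (⟨_, Algebra.mem_algebraMapSubmonoid_of_mem (⟨algebraMap C D c, Ideal.mem_primeCompl_iff.2 hcx⟩ : x.primeCompl)⟩ :
          Algebra.algebraMapSubmonoid (D ⧸ p.map (algebraMap C D)) x.primeCompl)))
      have h3 := hcb
      rw [Ideal.mem_comap, Ideal.mem_comap] at h3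
      have h4 : Ideal.Quotient.mk (p.map (algebraMap C D)) (algebraMap C D c) ∈ r.comap (algebraMap _ _) :=
        he ▸ h3
      exact h4

/-- Complete case: every finite field extension of every residue field gives a good fibre. -/
theorem good_fibres (hG : Good G) {A : Type u} [CommRing A] [IsLocalRing A] [IsNoetherianRing A]
    [IsAdicComplete (maximalIdeal A) A] {B : Type u} [CommRing B] [IsLocalRing B] [IsNoetherianRing B]
    [IsAdicComplete (maximalIdeal B) B] [Algebra A B] [IsLocalHom (algebraMap A B)] [Module.Flat A B]
    (hres : Module.Finite A (ResidueField B)) (hcl : ClosedGood G A B)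
    (p : Ideal A) [p.IsPrime] (K : Type u) [Field K] [Algebra p.ResidueField K] [Algebra A K]
    [IsScalarTower A p.ResidueField K] [Module.Finite p.ResidueField K] : G (K ⊗[A] B) := by
  haveI : Algebra.EssFiniteType A K := Algebra.EssFiniteType.comp A p.ResidueField K
  haveI : Module.Finite A (integralClosure A K) :=
    GrothLib.N2.finite_integralClosure_field (GrothLib.Cohen.isNagata_of_isAdicComplete A) K
  haveI := isLocalRing_of_finite_domain A (integralClosure A K)
  haveI := isAdicComplete_of_finite_domain A (integralClosure A K)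
  haveI : IsNoetherianRing (integralClosure A K) := IsNoetherianRing.of_finite A _
  haveI : IsFractionRing (integralClosure A K) K := by
    refine IsFractionRing.of_field _ _ fun z => ?_
    haveI : IsScalarTower A (A ⧸ p) p.ResidueField := inferInstance
    letI : Algebra (A ⧸ p) K := ((algebraMap p.ResidueField K).comp (algebraMap (A ⧸ p) p.ResidueField)).toAlgebra
    haveI : IsScalarTower (A ⧸ p) p.ResidueField K := IsScalarTower.of_algebraMap_eq fun _ => rfl
    haveI : IsScalarTower A (A ⧸ p) K := IsScalarTower.of_algebraMap_eq fun a => by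
      rw [IsScalarTower.algebraMap_apply (A ⧸ p) p.ResidueField K, ← IsScalarTower.algebraMap_apply A (A ⧸ p),
        ← IsScalarTower.algebraMap_apply]
    obtain ⟨⟨m, hm⟩, hmz⟩ := IsIntegral.exists_multiple_integral_of_isLocalization (A ⧸ p)⁰ z
      (Algebra.IsIntegral.isIntegral (R := p.ResidueField) z)
    obtain ⟨m, rfl⟩ := Ideal.Quotient.mk_surjective m
    have hm0 : algebraMap A K m ≠ 0 := by
      rw [IsScalarTower.algebraMap_apply A (A ⧸ p) K, Ideal.Quotient.algebraMap_eq,
        IsScalarTower.algebraMap_apply (A ⧸ p) p.ResidueField K, map_ne_zero_iff _ (RingHom.injective _)]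
      exact IsFractionRing.to_map_ne_zero_of_mem_nonZeroDivisors hm
    have hint : IsIntegral A (algebraMap A K m * z) := by
      rw [IsScalarTower.algebraMap_apply A (A ⧸ p) K, Ideal.Quotient.algebraMap_eq, ← Algebra.smul_def]
      exact isIntegral_trans (R := A) _ hmz
    refine ⟨⟨_, hint⟩, algebraMap A (integralClosure A K) m, ?_⟩
    rw [← IsScalarTower.algebraMap_apply, eq_div_iff hm0, mul_comm]
    rfl
  haveI : FiniteRingKrullDim (integralClosure A K) := inferInstance
  obtain ⟨n, hn, -⟩ := GrothLib.RegLoc.exists_dim_eq (R := integralClosure A K)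
  exact good_field_tensor hG hres hcl (integralClosure A K) (localCase hG n _ hn.le) K

end GrothLib.FibProp5
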